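import Groth.Agent.Lib.FlatFam5.AtPrime
import Groth.Agent.Lib.FlatFP.SheafFlat
import Groth.Agent.Lib.AssPts.Points
import Groth.Agent.Lib.QCoh.FT
import Groth.Prelude.Def_Coh

/-!
# Separating families: geometric form
-/

set_option autoImplicit false
set_option backward.isDefEq.respectTransparency false
set_option linter.style.haveILetI false
universe u

open CategoryTheory Limits AlgebraicGeometry TensorProduct

namespace GrothLib.FlatFam5

/-- **The obstruction ideal at a point over an Artinian local base.** -/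
theorem exists_ideal_geom {A : Type u} [CommRing A] [IsArtinianRing A] [IsLocalRing A] {X : Scheme.{u}}
    (f : X ⟶ Spec (CommRingCat.of A)) [LocallyOfFiniteType f] (F : X.Modules) (hF : Coh.IsCoh F) (x : X) :
    ∃ R₀ : Ideal A, (R₀ = ⊥ → FlatMod.IsFlatOverAt f F x) ∧
      ∀ (Y : Scheme.{u}) (g : Y ⟶ Spec (CommRingCat.of A)) (y : Y),
        (∀ x' : ↥(pullback f g), pullback.fst f g x' = x → pullback.snd f g x' = y →
          FlatMod.IsFlatOverAt (pullback.snd f g) ((Scheme.Modules.pullback (pullback.fst f g)).obj F) x') →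
        ∀ a ∈ R₀, Y.presheaf.germ ⊤ y trivial (g.appTop ((Scheme.ΓSpecIso (CommRingCat.of A)).inv a)) = 0 := by
  let S := Spec (CommRingCat.of A)
  let R := Γ(S, ⊤)
  let ε : A ≃+* R := (Scheme.ΓSpecIso (CommRingCat.of A)).symm.commRingCatIsoToRingEquiv
  haveI : IsArtinianRing R := RingEquiv.isArtinianRing ε
  haveI : IsLocalRing R := ε.isLocalRing
  haveI : IsNoetherianRing A := inferInstance
  haveI : IsLocallyNoetherian X := LocallyOfFiniteType.isLocallyNoetherian f
  haveI := hF.1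
  obtain ⟨U, hU, hxU, -⟩ := exists_isAffineOpen_mem_and_subset (X := X) (U := ⊤) (x := x) trivial
  have eU : U ≤ f ⁻¹ᵁ (⊤ : S.Opens) := fun z _ => trivial
  haveI := QCoh.moduleFinite_of_isFiniteType F hF.2 hU
  haveI : IsNoetherianRing Γ(X, U) := IsLocallyNoetherian.component_noetherian ⟨U, hU⟩
  letI : Algebra R Γ(X, U) := (f.appLE ⊤ U eU).hom.toAlgebra
  letI : Module R Γ(F, U) := Module.compHom _ (algebraMap R Γ(X, U))
  haveI : IsScalarTower R Γ(X, U) Γ(F, U) := IsScalarTower.of_algebraMap_smul fun _ _ => rfl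
  obtain ⟨R₁, h0, h1⟩ := exists_ideal_atPrime (A := R) Γ(F, U) (WeakAss.primeAt x hxU)
  refine ⟨R₁.comap ε.toRingHom, fun hbot => ?_, ?_⟩
  · refine (GrothLib.FlatFP.isFlatOverAt_iff f F (isAffineOpen_top S) hU eU hxU rfl).2 (h0 ?_)
    rw [eq_bot_iff]
    intro r hr
    obtain ⟨a, rfl⟩ := ε.surjective r
    have ha : a ∈ R₁.comap ε.toRingHom := hr
    rw [hbot, Ideal.mem_bot] at ha
    rw [ha, map_zero]
    exact zero_mem _
  intro Y g y hflat a ha
  obtain ⟨W, hW, hyW, -⟩ := exists_isAffineOpen_mem_and_subset (X := Y) (U := ⊤) (x := y) trivial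
  have eV : W ≤ g ⁻¹ᵁ (⊤ : S.Opens) := fun z _ => trivial
  have hc : IsPullback (pullback.fst f g) (pullback.snd f g) f g := IsPullback.of_hasPullback f g
  let g' := pullback.fst f g
  let f' := pullback.snd f g
  let X' := pullback f g
  let P : X'.Opens := g' ⁻¹ᵁ U ⊓ f' ⁻¹ᵁ W
  have hP : IsAffineOpen P := GrothLib.FlatLimit.isAffineOpen_square hc eV eU (isAffineOpen_top S) hW hU
  letI : Algebra R Γ(Y, W) := (g.appLE ⊤ W eV).hom.toAlgebra
  letI : Algebra Γ(Y, W) Γ(X', P) := (f'.appLE W P inf_le_right).hom.toAlgebra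
  letI : Algebra Γ(X, U) Γ(X', P) := (g'.appLE U P inf_le_left).hom.toAlgebra
  letI : Algebra R Γ(X', P) := ((algebraMap Γ(X, U) Γ(X', P)).comp (algebraMap R Γ(X, U))).toAlgebra
  haveI : IsScalarTower R Γ(X, U) Γ(X', P) := IsScalarTower.of_algebraMap_eq' rfl
  haveI : IsScalarTower R Γ(Y, W) Γ(X', P) := IsScalarTower.of_algebraMap_eq' (by
    show (g'.appLE U P _).hom.comp (f.appLE ⊤ U _).hom = (f'.appLE W P _).hom.comp (g.appLE ⊤ W _).hom
    rw [← CommRingCat.hom_comp, ← CommRingCat.hom_comp, Scheme.Hom.appLE_comp_appLE,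
      Scheme.Hom.appLE_comp_appLE]
    simp only [g', f', pullback.condition])
  haveI : Algebra.IsPushout R Γ(Y, W) Γ(X, U) Γ(X', P) :=
    GrothLib.FlatLimit.isPushout_square hc eV eU (isAffineOpen_top S) hW hU rfl rfl rfl rfl
  haveI : SMulCommClass Γ(X, U) Γ(Y, W) Γ(X', P) := ⟨fun a b x => by
    rw [Algebra.smul_def, Algebra.smul_def, Algebra.smul_def, Algebra.smul_def, mul_left_comm]⟩
  obtain ⟨s, hs, hs0⟩ := h1 Γ(Y, W) Γ(X', P) (WeakAss.primeAt y hyW) (fun Q _ hQx hQy => by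
    obtain ⟨x', hx', rfl⟩ := AssPts.exists_point hP Q inferInstance
    have hfst : g' x' = x := AssPts.primeAt_injective hU hx'.1 hxU
      ((AssPts.comap_primeAt g' (inf_le_left : P ≤ g' ⁻¹ᵁ U) hx').symm.trans hQx)
    have hsnd : f' x' = y := AssPts.primeAt_injective hW hx'.2 hyW
      ((AssPts.comap_primeAt f' (inf_le_right : P ≤ f' ⁻¹ᵁ W) hx').symm.trans hQy)
    exact (GrothLib.FlatFP.isFlatOverAt_pullback_iff f' g' F hU hW hP inf_le_left inf_le_right hx' rfl rfl).1
      (hflat x' hfst hsnd)) (ε a) ha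
  letI := Y.presheaf.algebra_section_stalk ⟨y, hyW⟩
  haveI := GrothLib.FlatFP.isLocalization_stalk_primeAt hW hyW
  have hz : Y.presheaf.germ W y hyW (g.appLE ⊤ W eV (ε a)) = 0 := by
    have hu : IsUnit (algebraMap Γ(Y, W) (Y.presheaf.stalk y) s) :=
      IsLocalization.map_units (Y.presheaf.stalk y) (⟨s, hs⟩ : (WeakAss.primeAt y hyW).primeCompl)
    have h2 : algebraMap Γ(Y, W) (Y.presheaf.stalk y) s * algebraMap Γ(Y, W) (Y.presheaf.stalk y) (g.appLE ⊤ W eV (ε a)) = 0 := by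
      rw [← map_mul]
      exact (congrArg _ hs0).trans (map_zero _)
    exact hu.mul_right_eq_zero.1 h2
  rw [← hz]
  exact (TopCat.Presheaf.germ_res_apply Y.presheaf (homOfLE (le_top : W ≤ ⊤)) y hyW _).symm

end GrothLib.FlatFam5
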