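import Groth.Agent.Lib.FlatFam5.Core
import Groth.Agent.Lib.FlatFP.BaseChangeAt

/-!
# Separating families: localised form
-/

set_option autoImplicit false
set_option linter.style.haveILetI false
universe u

open TensorProduct IsLocalRing

namespace GrothLib.FlatFam5

attribute [local instance] Algebra.TensorProduct.rightAlgebra

variable {A B : Type u} [CommRing A] [IsArtinianRing A] [IsLocalRing A] [CommRing B] [IsNoetherianRing B]
  [Algebra A B] (M : Type u) [AddCommGroup M] [Module A M] [Module B M] [IsScalarTower A B M]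
  [Module.Finite B M] (p : Ideal B) [p.IsPrime]

/-- The form at a prime of an arbitrary algebra. -/
theorem exists_ideal_atPrime :
    ∃ R₀ : Ideal A, (R₀ = ⊥ → Module.Flat A (LocalizedModule p.primeCompl M)) ∧
      ∀ (A' B' : Type u) [CommRing A'] [CommRing B'] [Algebra A A'] [Algebra A' B']
        [Algebra B B'] [Algebra A B'] [IsScalarTower A A' B'] [IsScalarTower A B B'] [Algebra.IsPushout A A' B B']
        [SMulCommClass B A' B'] (𝔮 : Ideal A') [𝔮.IsPrime],
        (∀ (P : Ideal B') [P.IsPrime], P.comap (algebraMap B B') = p →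
          P.comap (algebraMap A' B') = 𝔮 →
          Module.Flat A' (LocalizedModule P.primeCompl (B' ⊗[B] M))) →
        ∀ r ∈ R₀, ∃ s ∉ 𝔮, s * algebraMap A A' r = 0 := by
  obtain ⟨R₀, h0, h1⟩ := exists_ideal (A := A) M p
  refine ⟨R₀, h0, ?_⟩
  intro A' B' _ _ _ _ _ _ _ _ _ _ 𝔮 _ hflat r hr
  let L := Localization.AtPrime 𝔮
  let B'' := L ⊗[A'] B'
  letI : Algebra B B'' := ((algebraMap B' B'').comp (algebraMap B B')).toAlgebra
  haveI : IsScalarTower B B' B'' := IsScalarTower.of_algebraMap_eq' rfl
  haveI : IsScalarTower A' B' B'' := IsScalarTower.of_algebraMap_eq fun a =>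
    (Algebra.TensorProduct.includeRight.commutes a).symm
  haveI : IsScalarTower A B' B'' := IsScalarTower.of_algebraMap_eq fun a => by
    rw [IsScalarTower.algebraMap_apply A A' B', ← IsScalarTower.algebraMap_apply A' B' B'',
      ← IsScalarTower.algebraMap_apply A A' B'']
  haveI : IsScalarTower A B B'' := IsScalarTower.of_algebraMap_eq fun a => by
    rw [IsScalarTower.algebraMap_apply A B' B'', IsScalarTower.algebraMap_apply A B B',
      IsScalarTower.algebraMap_apply B B' B'']
  haveI : IsScalarTower A L B'' := IsScalarTower.of_algebraMap_eq (R := A) (S := L) (A := B'') fun a => by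
    rw [IsScalarTower.algebraMap_apply A A' B'', IsScalarTower.algebraMap_apply A' L B'']
    exact congrArg _ (IsScalarTower.algebraMap_apply A A' L a).symm
  haveI : SMulCommClass B L B'' := ⟨fun a b x => by
    rw [Algebra.smul_def, Algebra.smul_def]
    exact mul_smul_comm b _ x⟩
  haveI : SMulCommClass B' L B'' := ⟨fun a b x => by
    rw [Algebra.smul_def, Algebra.smul_def]
    exact mul_smul_comm b _ x⟩
  haveI : Algebra.IsPushout A L B B'' :=
    (Algebra.IsPushout.comp_iff (R := A) (S := A') (T := L) (R' := B) (S' := B') (T' := B'')).2 inferInstance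
  have hmap := h1 L B'' fun P _ hPB hPA => by
    let P₀ : Ideal B' := P.comap (algebraMap B' B'')
    have hb : P₀.comap (algebraMap B B') = p := by
      rw [Ideal.comap_comap, ← IsScalarTower.algebraMap_eq]; exact hPB
    have ha : P₀.comap (algebraMap A' B') = 𝔮 := by
      rw [Ideal.comap_comap, ← IsScalarTower.algebraMap_eq, IsScalarTower.algebraMap_eq A' L B'',
        ← Ideal.comap_comap, hPA]
      exact Localization.AtPrime.under_maximalIdeal
    haveI : IsScalarTower A' B' (B' ⊗[B] M) := TensorProduct.isScalarTower_left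
    haveI : IsScalarTower L B'' (B'' ⊗[B'] (B' ⊗[B] M)) := TensorProduct.isScalarTower_left
    haveI : IsScalarTower L B'' (B'' ⊗[B] M) := TensorProduct.isScalarTower_left
    have h := GrothLib.FlatFP.flat_pushout_localized (A := A') (A' := L) (B := B') (B' := B'') (M := B' ⊗[B] M)
      P₀ P rfl (hflat P₀ hb ha)
    haveI := h
    exact Module.Flat.of_linearEquiv ((IsLocalizedModule.mapEquiv P.primeCompl
      (LocalizedModule.mkLinearMap P.primeCompl _) (LocalizedModule.mkLinearMap P.primeCompl _)
      (Localization.AtPrime P) (AlgebraTensorModule.cancelBaseChange B B' B'' B'' M).symm).restrictScalars L)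
  have hr0 : algebraMap A L r = 0 := Ideal.mem_bot.1 (hmap ▸ Ideal.mem_map_of_mem _ hr)
  rw [IsScalarTower.algebraMap_apply A A' L, IsLocalization.map_eq_zero_iff 𝔮.primeCompl] at hr0
  obtain ⟨⟨s, hs⟩, hs'⟩ := hr0
  exact ⟨s, hs, hs'⟩

end GrothLib.FlatFam5
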