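import Groth.Agent.Lib.FlatFam5.Primary
import Mathlib.RingTheory.Filtration
import Mathlib.LinearAlgebra.TensorProduct.Basis
import Mathlib.LinearAlgebra.TensorProduct.Quotient
import Mathlib.LinearAlgebra.Dual.Lemmas

/-!
# Vanishing from one point, for a primary residue extension
-/

set_option autoImplicit false
set_option linter.style.haveILetI false
universe u

open TensorProduct IsLocalRing

namespace GrothLib.FlatFam5

variable {A k L O N V : Type u} [CommRing A] [Field k] [Algebra A k] [Field L] [Algebra k L]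
  [CommRing O] [IsLocalRing O] [IsNoetherianRing O] [Algebra A O]
  [AddCommGroup N] [Module A N] [Module k N] [Module O N] [IsScalarTower A k N] [IsScalarTower A O N]
  [Module.Finite O N] [AddCommGroup V] [Module k V] [Module L V] [IsScalarTower k L V]
  [Algebra k (O ⧸ maximalIdeal O)] [IsScalarTower A k (O ⧸ maximalIdeal O)]

theorem eq_zero_of_smul (hsurj : Function.Surjective (algebraMap A k))
    (hsep : ∀ x : O ⧸ maximalIdeal O, IsSeparable k x → x ∈ Set.range (algebraMap k (O ⧸ maximalIdeal O)))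
    {B' Ω Z : Type u} [CommRing B'] [Field Ω] [AddCommGroup Z] [Module B' Z] (Φ : Z ≃+ (V ⊗[k] N))
    (ρ : L ⊗[k] (O ⧸ maximalIdeal O) →+* Ω) (ψ : B' →+* Ω)
    (hgen : ∀ s : B', ∃ (m : ℕ) (a : Fin m → L) (b : Fin m → O),
      (∀ (v : V) (y : N), Φ (s • Φ.symm (v ⊗ₜ[k] y)) = ∑ i, (a i • v) ⊗ₜ[k] (b i • y)) ∧
        ψ s = ρ (∑ i, a i ⊗ₜ[k] Ideal.Quotient.mk (maximalIdeal O) (b i)))
    {z : Z} {s : B'} (hs : ψ s ≠ 0) (hz : s • z = 0) : z = 0 := by
  classical
  letI : Field (O ⧸ maximalIdeal O) := Ideal.Quotient.field _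
  obtain ⟨m, a, b, hab, hψ⟩ := hgen s
  let K := O ⧸ maximalIdeal O
  set d : L ⊗[k] K := ∑ i, a i ⊗ₜ[k] Ideal.Quotient.mk (maximalIdeal O) (b i) with hd
  have hdn : ¬ IsNilpotent d := fun h => hs (by
    rw [hψ]
    exact (h.map ρ).eq_zero)
  let γ := Module.Free.chooseBasis k V
  let δ := Module.Free.chooseBasis L V
  let w := Φ z
  let co : (V ⊗[k] N) ≃ₗ[k] _ := TensorProduct.equivFinsuppOfBasisLeft γ
  suffices hall : ∀ n : ℕ, ∀ j, co w j ∈ maximalIdeal O ^ n • (⊤ : Submodule O N) by
    have h0 : co w = 0 := Finsupp.ext fun j => by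
      have h : co w j ∈ ⨅ n : ℕ, maximalIdeal O ^ n • (⊤ : Submodule O N) := Submodule.mem_iInf _ |>.2 fun n => hall n j
      rw [Ideal.iInf_pow_smul_eq_bot_of_isLocalRing (maximalIdeal O) (maximalIdeal.isMaximal O).ne_top] at h
      exact (Submodule.mem_bot O).1 h
    exact Φ.injective ((co.injective (h0.trans (map_zero co).symm)).trans (map_zero Φ).symm)
  intro n
  induction n with
  | zero => intro j; simp
  | succ n ih =>
  let Nn : Submodule O N := maximalIdeal O ^ n • ⊤
  let Nk : Submodule k N :=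
    { carrier := Nn
      add_mem' := fun hx hy => Nn.add_mem hx hy
      zero_mem' := Nn.zero_mem
      smul_mem' := fun c x hx => by
        obtain ⟨c, rfl⟩ := hsurj c
        show algebraMap A k c • x ∈ Nn
        rw [algebraMap_smul, ← algebraMap_smul O c x]
        exact Nn.smul_mem _ hx }
  have hbN : ∀ (c : O) (x : ↥Nk), c • (x : N) ∈ Nk := fun c x => Nn.smul_mem c x.2
  have hcomm : ∀ (c : O) (e : k) (x : N), c • e • x = e • c • x := fun c e x => by
    obtain ⟨e, rfl⟩ := hsurj e
    rw [algebraMap_smul, algebraMap_smul, smul_comm]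
  let mulO : O → (↥Nk →ₗ[k] ↥Nk) := fun c =>
    { toFun := fun x => ⟨c • (x : N), hbN c x⟩
      map_add' := fun x y => Subtype.ext (smul_add c (x : N) (y : N))
      map_smul' := fun e x => Subtype.ext (hcomm c e x) }
  have hw : ∃ w₀ : V ⊗[k] ↥Nk, Nk.subtype.lTensor V w₀ = w := by
    let f : Module.Free.ChooseBasisIndex k V →₀ ↥Nk :=
      Finsupp.onFinset (co w).support (fun j => ⟨co w j, ih j⟩) (fun j hj => by
        rw [Finsupp.mem_support_iff]
        intro h
        exact hj (Subtype.ext h))
    refine ⟨(TensorProduct.equivFinsuppOfBasisLeft γ).symm f, co.injective ?_⟩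
    have hn : ∀ u : V ⊗[k] ↥Nk, ∀ j, co (Nk.subtype.lTensor V u) j =
        ((TensorProduct.equivFinsuppOfBasisLeft γ u j : ↥Nk) : N) := fun u j => by
      induction u using TensorProduct.induction_on with
      | zero => simp
      | add p q hp hq => simp only [map_add, Finsupp.add_apply, Submodule.coe_add, hp, hq]
      | tmul v y =>
        show TensorProduct.equivFinsuppOfBasisLeft γ (v ⊗ₜ[k] (y : N)) j = _
        rw [TensorProduct.equivFinsuppOfBasisLeft_apply_tmul_apply,
          TensorProduct.equivFinsuppOfBasisLeft_apply_tmul_apply]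
        rfl
    ext j
    rw [hn, LinearEquiv.apply_symm_apply]
    rfl
  obtain ⟨w₀, hw₀⟩ := hw
  let T : V ⊗[k] ↥Nk →ₗ[k] V ⊗[k] ↥Nk :=
    ∑ i, TensorProduct.map (a i • LinearMap.id) (mulO (b i))
  have hT : ∀ u, Nk.subtype.lTensor V (T u) = Φ (s • Φ.symm (Nk.subtype.lTensor V u)) := by
    intro u
    induction u using TensorProduct.induction_on with
    | zero => simp
    | add p q hp hq => simp only [map_add, hp, hq, smul_add]
    | tmul v y =>
      rw [LinearMap.lTensor_tmul, hab]
      simp only [T, LinearMap.sum_apply, map_sum]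
      rfl
  have hT0 : T w₀ = 0 := by
    refine Module.Flat.lTensor_preserves_injective_linearMap Nk.subtype Nk.injective_subtype ?_
    rw [hT, hw₀, map_zero]
    show Φ (s • Φ.symm (Φ z)) = 0
    rw [Φ.symm_apply_apply, hz, map_zero]
  intro j
  have hfin : ∀ φ : ↥Nn →ₗ[O] K, ∀ y : ↥Nn, (y : N) = co w j → φ y = 0 := by
    intro φ y hy
    let φk : ↥Nk →ₗ[k] K :=
      { toFun := fun x => φ ⟨x.1, x.2⟩
        map_add' := fun x x' => φ.map_add _ _
        map_smul' := fun e x => by
          obtain ⟨e, rfl⟩ := hsurj e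
          have h1 : (⟨(algebraMap A k e • x).1, (algebraMap A k e • x).2⟩ : ↥Nn) = algebraMap A O e • (⟨x.1, x.2⟩ : ↥Nn) := by
            refine Subtype.ext ?_
            show algebraMap A k e • (x : N) = algebraMap A O e • (x : N)
            rw [algebraMap_smul, algebraMap_smul]
          rw [h1, map_smul, RingHom.id_apply, algebraMap_smul, algebraMap_smul] }
    let Υ : δ.coord = δ.coord → Module.Free.ChooseBasisIndex L V → (V ⊗[k] K →ₗ[k] L ⊗[k] K) := fun _ c =>
      ((δ.coord c).restrictScalars k).rTensor K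
    have hΥ : ∀ c u, Υ rfl c (φk.lTensor V (T u)) = d * Υ rfl c (φk.lTensor V u) := by
      intro c u
      induction u using TensorProduct.induction_on with
      | zero => simp
      | add p q hp hq => simp only [map_add, hp, hq, mul_add]
      | tmul v x =>
        simp only [T, LinearMap.sum_apply, map_sum, hd, Finset.sum_mul]
        refine Finset.sum_congr rfl fun i _ => ?_
        show (δ.coord c (a i • v)) ⊗ₜ[k] φ ⟨b i • (x : N), hbN (b i) x⟩ = _
        rw [show (⟨b i • (x : N), hbN (b i) x⟩ : ↥Nn) = b i • (⟨x.1, x.2⟩ : ↥Nn) from rfl, map_smul φ, map_smul]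
        show _ = (a i ⊗ₜ[k] Ideal.Quotient.mk (maximalIdeal O) (b i)) * (δ.coord c v ⊗ₜ[k] φ ⟨x.1, x.2⟩)
        rw [Algebra.TensorProduct.tmul_mul_tmul]
        congr 1
    have h0 : φk.lTensor V w₀ = 0 := by
      let e := (TensorProduct.congr (δ.repr.restrictScalars k) (LinearEquiv.refl k K)).trans
        (TensorProduct.finsuppLeft k k L K (Module.Free.ChooseBasisIndex L V))
      have he : ∀ u c, e u c = Υ rfl c u := fun u c => by
        induction u using TensorProduct.induction_on with
        | zero => simp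
        | add p q hp hq => simp only [map_add, Finsupp.add_apply, hp, hq]
        | tmul v x => simp [e, Υ, TensorProduct.finsuppLeft_apply_tmul_apply]
      refine e.injective (Finsupp.ext fun c => ?_)
      rw [he, map_zero, Finsupp.zero_apply]
      have h1 := hΥ c w₀
      rw [hT0, map_zero, map_zero] at h1
      by_contra hne
      exact hdn (isNilpotent_of_mul_eq_zero k L K hsep hne h1.symm)
    have hn : ∀ u : V ⊗[k] ↥Nk, TensorProduct.equivFinsuppOfBasisLeft γ (φk.lTensor V u) j =
        φk (TensorProduct.equivFinsuppOfBasisLeft γ u j) ∧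
        co (Nk.subtype.lTensor V u) j = ((TensorProduct.equivFinsuppOfBasisLeft γ u j : ↥Nk) : N) := fun u => by
      induction u using TensorProduct.induction_on with
      | zero => simp
      | add p q hp hq => simp only [map_add, Finsupp.add_apply, Submodule.coe_add, hp, hq, and_self]
      | tmul v x =>
        refine ⟨?_, ?_⟩
        · rw [LinearMap.lTensor_tmul, TensorProduct.equivFinsuppOfBasisLeft_apply_tmul_apply,
            TensorProduct.equivFinsuppOfBasisLeft_apply_tmul_apply, map_smul]
        · show TensorProduct.equivFinsuppOfBasisLeft γ (v ⊗ₜ[k] (x : N)) j = _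
          rw [TensorProduct.equivFinsuppOfBasisLeft_apply_tmul_apply,
            TensorProduct.equivFinsuppOfBasisLeft_apply_tmul_apply]
          rfl
    obtain ⟨h2, h3⟩ := hn w₀
    rw [h0, map_zero, Finsupp.zero_apply] at h2
    rw [hw₀] at h3
    have hy' : (⟨_, (TensorProduct.equivFinsuppOfBasisLeft γ w₀ j).2⟩ : ↥Nn) = y :=
      Subtype.ext (h3.symm.trans hy.symm)
    rw [← hy']
    exact h2.symm
  let y : ↥Nn := ⟨co w j, ih j⟩
  let Q := ↥Nn ⧸ (maximalIdeal O • (⊤ : Submodule O ↥Nn))
  have hy0 : (Submodule.Quotient.mk y : Q) = 0 := by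
    refine (Module.forall_dual_apply_eq_zero_iff K (Submodule.Quotient.mk y : Q)).1 fun g => ?_
    exact hfin (g.restrictScalars O ∘ₗ Submodule.mkQ _) y rfl
  have h4 := (Submodule.Quotient.mk_eq_zero _).1 hy0
  have h5 : (maximalIdeal O • (⊤ : Submodule O ↥Nn)).map Nn.subtype = maximalIdeal O ^ (n + 1) • ⊤ := by
    rw [Submodule.map_smul'', Submodule.map_subtype_top, ← Submodule.mul_smul, ← pow_succ']
  exact h5.le (Submodule.mem_map_of_mem h4)

end GrothLib.FlatFam5
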