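import Groth.Agent.Lib.FlatGr5.NormalOpen
import Groth.Agent.Lib.FlatFam5.PrimKey
import Mathlib.RingTheory.Artinian.Ring
import Mathlib.RingTheory.IsTensorProduct
import Mathlib.LinearAlgebra.TensorProduct.Basis
import Mathlib.RingTheory.Filtration

/-!
# Flatness detected by a separating family over an Artinian local base
-/

set_option autoImplicit false
set_option linter.style.haveILetI false
universe u

open TensorProduct IsLocalRing

namespace GrothLib.FlatFam5

variable {A B : Type u} [CommRing A] [IsArtinianRing A] [IsLocalRing A] [CommRing B] [IsNoetherianRing B]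
  [Algebra A B] (M : Type u) [AddCommGroup M] [Module A M] [Module B M] [IsScalarTower A B M]
  [Module.Finite B M] (p : Ideal B) [p.IsPrime]

/-- The localisation. -/
abbrev Np : Type u := LocalizedModule p.primeCompl M

/-- The closed fibre of the localisation. -/
abbrev Nb : Type u :=
  Np M p ⧸ ((maximalIdeal A).map (algebraMap A (Localization.AtPrime p)) • (⊤ : Submodule (Localization.AtPrime p) (Np M p)))

theorem smul_Nb_eq_zero (a : A) (ha : a ∈ maximalIdeal A) (y : Nb (A := A) M p) : a • y = 0 := by
  obtain ⟨y, rfl⟩ := Submodule.Quotient.mk_surjective _ y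
  rw [← Submodule.Quotient.mk_smul, Submodule.Quotient.mk_eq_zero, ← algebraMap_smul (Localization.AtPrime p) a y]
  exact Submodule.smul_mem_smul (Ideal.mem_map_of_mem _ ha) Submodule.mem_top

/-- Generation by lifts of a generating system of the closed fibre. -/
theorem span_eq_top_of_lift {Λ : Type u} (e : Λ → Np M p)
    (he : ∀ y : Nb (A := A) M p, y ∈ Submodule.span A (Set.range fun i => Submodule.Quotient.mk (e i))) :
    Submodule.span A (Set.range e) = ⊤ := by
  obtain ⟨n, hn⟩ := IsArtinianRing.isNilpotent_jacobson_bot (R := A)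
  rw [IsLocalRing.jacobson_eq_maximalIdeal ⊥ bot_ne_top] at hn
  let S := Submodule.span A (Set.range e)
  have h1 : (⊤ : Submodule A (Np M p)) ≤ S ⊔ maximalIdeal A • ⊤ := by
    intro y _
    have hmk : ∀ z : Nb (A := A) M p, z ∈ Submodule.span A (Set.range fun i => (Submodule.Quotient.mk (e i) : Nb (A := A) M p)) →
        ∃ s ∈ S, (Submodule.Quotient.mk s : Nb (A := A) M p) = z := by
      intro z hz
      induction hz using Submodule.span_induction with
      | mem z hz =>
        obtain ⟨i, rfl⟩ := hz
        exact ⟨e i, Submodule.subset_span ⟨i, rfl⟩, rfl⟩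
      | zero => exact ⟨0, zero_mem _, rfl⟩
      | add a c _ _ ha hc =>
        obtain ⟨s, hs, rfl⟩ := ha
        obtain ⟨t, ht, rfl⟩ := hc
        exact ⟨s + t, add_mem hs ht, Submodule.Quotient.mk_add _⟩
      | smul r a _ ha =>
        obtain ⟨s, hs, rfl⟩ := ha
        exact ⟨r • s, S.smul_mem r hs, Submodule.Quotient.mk_smul _ _ _⟩
    obtain ⟨s, hs, hsy⟩ := hmk _ (he (Submodule.Quotient.mk y))
    have h2 := (Submodule.Quotient.eq _).1 hsy.symm
    rw [show y = s + (y - s) by abel]
    refine add_mem (Submodule.mem_sup_left hs) (Submodule.mem_sup_right ?_)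
    generalize y - s = w at h2
    refine Submodule.smul_induction_on h2 (fun c hc x _ => ?_) fun x x' hx hx' => add_mem hx hx'
    clear h2
    induction hc using Submodule.span_induction generalizing x with
    | mem c hc =>
      obtain ⟨a, ha, rfl⟩ := hc
      rw [algebraMap_smul]
      exact Submodule.smul_mem_smul ha Submodule.mem_top
    | zero => rw [zero_smul]; exact zero_mem _
    | add a c _ _ ha hc => rw [add_smul]; exact add_mem (ha x trivial) (hc x trivial)
    | smul o c _ hc =>
      rw [show (o • c) • x = c • o • x by rw [smul_eq_mul, mul_comm, mul_smul]]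
      exact hc (o • x) trivial
  have h2 : ∀ j : ℕ, (⊤ : Submodule A (Np M p)) ≤ S ⊔ maximalIdeal A ^ j • ⊤ := by
    intro j
    induction j with
    | zero => simp
    | succ j ih =>
      refine ih.trans (sup_le le_sup_left ?_)
      refine (Submodule.smul_mono le_rfl h1).trans ?_
      rw [Submodule.smul_sup, ← Submodule.mul_smul, ← pow_succ]
      exact sup_le_sup_right Submodule.smul_le_right _
  refine top_le_iff.1 ((h2 n).trans ?_)
  rw [hn, Submodule.zero_eq_bot, Submodule.bot_smul, sup_bot_eq]

/-- The residue extension at `p` has no separable elements outside the residue field of `A`. -/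
def PrimaryAt : Prop :=
  ∀ (x : Localization.AtPrime p ⧸ maximalIdeal (Localization.AtPrime p)) (q : Polynomial A),
    (q.map (Ideal.Quotient.mk (maximalIdeal A))).Separable → Polynomial.aeval x q = 0 →
      x ∈ Set.range (algebraMap A (Localization.AtPrime p ⧸ maximalIdeal (Localization.AtPrime p)))

/-- **Flatness from a separating family: all points, or one point for a primary residue extension.** -/
theorem exists_ideal_gen :
    ∃ R₀ : Ideal A, (R₀ = ⊥ → Module.Flat A (LocalizedModule p.primeCompl M)) ∧
      ∀ (A' B' : Type u) [CommRing A'] [IsLocalRing A'] [CommRing B'] [Algebra A A'] [Algebra A' B']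
        [Algebra B B'] [Algebra A B'] [IsScalarTower A A' B'] [IsScalarTower A B B'] [Algebra.IsPushout A A' B B']
        [SMulCommClass B A' B'],
        ((∀ (P : Ideal B') [P.IsPrime], P.comap (algebraMap B B') = p →
          P.comap (algebraMap A' B') = maximalIdeal A' →
          Module.Flat A' (LocalizedModule P.primeCompl (B' ⊗[B] M))) ∨
        (PrimaryAt (A := A) p ∧ ∃ (P : Ideal B') (_ : P.IsPrime), P.comap (algebraMap B B') = p ∧
          P.comap (algebraMap A' B') = maximalIdeal A' ∧
          Module.Flat A' (LocalizedModule P.primeCompl (B' ⊗[B] M)))) →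
        R₀.map (algebraMap A A') = ⊥ := by
  classical
  let O := Localization.AtPrime p
  let N := Np M p
  let k := A ⧸ maximalIdeal A
  letI : Field k := Ideal.Quotient.field (maximalIdeal A)
  let Nbar := Nb (A := A) M p
  letI : Module k Nbar := Module.IsTorsionBySet.module (I := maximalIdeal A) fun y a => smul_Nb_eq_zero (A := A) M p (a : A) a.2 y
  haveI : IsScalarTower A k Nbar := ⟨fun c d y => by
    obtain ⟨d, rfl⟩ := Ideal.Quotient.mk_surjective d
    exact (show Ideal.Quotient.mk (maximalIdeal A) (c • d) • y = _ from mul_smul c d y)⟩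
  haveI : SMulCommClass k B Nbar := ⟨fun c b y => by
    obtain ⟨c, rfl⟩ := Ideal.Quotient.mk_surjective c
    show algebraMap A k c • b • y = b • algebraMap A k c • y
    rw [algebraMap_smul, algebraMap_smul, smul_comm]⟩
  let β := Module.Free.chooseBasis k Nbar
  let Λ := Module.Free.ChooseBasisIndex k Nbar
  have hlift : ∀ i, ∃ y : N, (Submodule.Quotient.mk y : Nbar) = β i := fun i =>
    Submodule.Quotient.mk_surjective _ _
  choose e he using hlift
  refine ⟨Ideal.span {a : A | ∃ v : Λ →₀ A, Finsupp.linearCombination A e v = 0 ∧ ∃ i, v i = a}, fun hR => ?_, ?_⟩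
  · have hgen : Submodule.span A (Set.range e) = ⊤ := by
      refine span_eq_top_of_lift M p e fun y => ?_
      have hy : y ∈ Submodule.span k (Set.range fun i => (Submodule.Quotient.mk (e i) : Nbar)) := by
        rw [funext he]
        exact β.span_eq.ge Submodule.mem_top
      rw [← Submodule.restrictScalars_span A k Ideal.Quotient.mk_surjective] 
      exact hy
    have hli : LinearIndependent A e := linearIndependent_iff.2 fun v hv => Finsupp.ext fun i => by
      have h : v i ∈ Ideal.span {a : A | ∃ v : Λ →₀ A, Finsupp.linearCombination A e v = 0 ∧ ∃ i, v i = a} :=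
        Ideal.subset_span ⟨v, hv, i, rfl⟩
      rw [hR] at h
      exact Ideal.mem_bot.1 h
    haveI : Module.Free A N := Module.Free.of_basis (Module.Basis.mk hli hgen.ge)
    exact inferInstance
  intro A' B' _ _ _ _ _ _ _ _ _ _ _ hflat
  set R₀ := Ideal.span {a : A | ∃ v : Λ →₀ A, Finsupp.linearCombination A e v = 0 ∧ ∃ i, v i = a} with hR₀
  let I : Ideal A' := R₀.map (algebraMap A A')
  let J : Ideal A' := maximalIdeal A' * I
  suffices hIJ : I ≤ J by
    refine Submodule.eq_bot_of_le_smul_of_le_jacobson_bot (maximalIdeal A') I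
      (Ideal.FG.map (IsNoetherian.noetherian R₀) _) hIJ ?_
    exact maximalIdeal_le_jacobson _
  refine Ideal.map_le_iff_le_comap.2 (Ideal.span_le.2 ?_)
  rintro _ ⟨a, ha, i₀, rfl⟩
  let V : Submodule A' (A' ⧸ J) := Submodule.map J.mkQ I
  have hmV : ∀ c ∈ maximalIdeal A', ∀ x : ↥V, c • x = 0 := fun c hc x => by
    obtain ⟨y, hy, hyx⟩ := x.2
    refine Subtype.ext ?_
    show c • (x : A' ⧸ J) = 0
    rw [← hyx, ← map_smul]
    exact (Submodule.Quotient.mk_eq_zero J).2 (Ideal.mul_mem_mul hc hy)
  have hloc : ∀ c ∈ maximalIdeal A, algebraMap A A' c ∈ maximalIdeal A' := fun c hc => by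
    obtain ⟨n, hn⟩ := IsArtinianRing.isNilpotent_jacobson_bot (R := A)
    rw [IsLocalRing.jacobson_eq_maximalIdeal ⊥ bot_ne_top] at hn
    refine (maximalIdeal.isMaximal A').isPrime.mem_of_pow_mem n ?_
    rw [← map_pow, Ideal.mem_bot.1 (hn.le (Ideal.pow_mem_pow hc n)), map_zero]
    exact zero_mem _
  letI : Module k ↥V := Module.IsTorsionBySet.module (I := maximalIdeal A) fun x c => by
    show (c : A) • x = 0
    rw [← algebraMap_smul A' (c : A) x]
    exact hmV _ (hloc _ c.2) x
  haveI : IsScalarTower A k ↥V := ⟨fun c d y => by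
    obtain ⟨d, rfl⟩ := Ideal.Quotient.mk_surjective d
    exact (show Ideal.Quotient.mk (maximalIdeal A) (c • d) • y = _ from mul_smul c d y)⟩
  haveI : CompatibleSMul k A ↥V Nbar := ⟨fun c x y => by
    rw [← algebraMap_smul k c x, TensorProduct.smul_tmul, algebraMap_smul k c y]⟩
  haveI : CompatibleSMul A k ↥V Nbar := ⟨fun c x y => by
    obtain ⟨c, rfl⟩ := Ideal.Quotient.mk_surjective c
    show (algebraMap A k c • x) ⊗ₜ[A] y = x ⊗ₜ[A] (algebraMap A k c • y)
    rw [algebraMap_smul k c x, algebraMap_smul k c y, TensorProduct.smul_tmul]⟩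
  let M' := B' ⊗[B] M
  let N' := B' ⊗[B] Nbar
  haveI : IsScalarTower A' B' M' := TensorProduct.isScalarTower_left
  haveI : IsScalarTower A' B' N' := TensorProduct.isScalarTower_left
  let Z := N' ⊗[A'] ↥V
  let Φ : Z ≃+ (↥V ⊗[k] Nbar) :=
    (((TensorProduct.congr (Algebra.IsPushout.cancelBaseChange A A' B B' Nbar) (LinearEquiv.refl A' ↥V)).trans
      (TensorProduct.comm A' _ _)).trans
        (AlgebraTensorModule.cancelBaseChange A A' A' ↥V Nbar)).toAddEquiv.trans
      (TensorProduct.equivOfCompatibleSMul k A A ↥V Nbar).toAddEquiv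
  have hΦ : ∀ (v : ↥V) (y : Nbar), Φ (((1 : B') ⊗ₜ[B] y) ⊗ₜ[A'] v) = v ⊗ₜ[k] y := fun v y => by
    simp [Φ]
    rfl
  let γ := Module.Free.chooseBasis k ↥V
  let E : Z → (Module.Free.ChooseBasisIndex k ↥V →₀ Nbar) := fun z => TensorProduct.equivFinsuppOfBasisLeft γ (Φ z)
  have hEadd : ∀ x y, E (x + y) = E x + E y := fun x y => by
    show TensorProduct.equivFinsuppOfBasisLeft γ (Φ (x + y)) = _
    rw [map_add, map_add]
  have hEb : ∀ (b : B) (z : Z) i, E (algebraMap B B' b • z) i = b • E z i := by
    intro b z i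
    obtain ⟨w, rfl⟩ := Φ.symm.surjective z
    induction w using TensorProduct.induction_on with
    | zero => simp [E]
    | add x y hx hy =>
      rw [map_add, smul_add, hEadd, hEadd, Finsupp.add_apply, Finsupp.add_apply, smul_add, hx, hy]
    | tmul v y =>
      have h1 : Φ.symm (v ⊗ₜ[k] y) = ((1 : B') ⊗ₜ[B] y) ⊗ₜ[A'] v := by
        rw [AddEquiv.symm_apply_eq, hΦ]
      have h2 : algebraMap B B' b • (((1 : B') ⊗ₜ[B] y) ⊗ₜ[A'] v) = ((1 : B') ⊗ₜ[B] (b • y)) ⊗ₜ[A'] v := by
        rw [TensorProduct.smul_tmul', TensorProduct.smul_tmul', algebraMap_smul B' b (1 : B'), TensorProduct.smul_tmul]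
      simp only [E]
      rw [h1, h2, hΦ, hΦ, TensorProduct.equivFinsuppOfBasisLeft_apply_tmul_apply,
        TensorProduct.equivFinsuppOfBasisLeft_apply_tmul_apply]
      exact smul_comm _ _ _
  have hA'Z : ∀ c ∈ maximalIdeal A', ∀ z : Z, algebraMap A' B' c • z = 0 := by
    intro c hc z
    induction z using TensorProduct.induction_on with
    | zero => simp
    | add x y hx hy => rw [smul_add, hx, hy, add_zero]
    | tmul y v =>
      rw [TensorProduct.smul_tmul', algebraMap_smul, TensorProduct.smul_tmul, hmV c hc, TensorProduct.tmul_zero]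
  -- an element killed at all primes over `(p, m')` vanishes
  have hkey : ∀ z : Z, (∀ (P : Ideal B') [P.IsPrime], P.comap (algebraMap B B') = p →
      P.comap (algebraMap A' B') = maximalIdeal A' → ∃ s ∉ P, s • z = 0) → z = 0 := by
    intro z hz
    let Cz := Submodule.span B' {z}
    let 𝔟 : Ideal B' := (maximalIdeal A').map (algebraMap A' B') ⊔ p.map (algebraMap B B')
    let 𝔞 : Ideal B' := Cz.annihilator ⊔ 𝔟
    have hnd : ¬ Disjoint (𝔞 : Set B') (p.primeCompl.map (algebraMap B B') : Submonoid B') := by
      intro hd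
      obtain ⟨P, hP, haP, hdP⟩ := Ideal.exists_le_prime_disjoint _ _ hd
      have hPB : P.comap (algebraMap B B') = p := by
        refine le_antisymm (fun b hb => by_contra fun hbp => ?_) ?_
        · exact Set.disjoint_left.1 hdP hb ⟨b, hbp, rfl⟩
        · exact Ideal.map_le_iff_le_comap.1 (le_sup_right.trans (le_sup_right.trans haP))
      have hPA : P.comap (algebraMap A' B') = maximalIdeal A' :=
        ((maximalIdeal.isMaximal A').eq_of_le (Ideal.IsPrime.ne_top inferInstance)
          (Ideal.map_le_iff_le_comap.1 (le_sup_left.trans (le_sup_right.trans haP)))).symm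
      obtain ⟨s, hs, hsz⟩ := hz P hPB hPA
      exact hs (haP (Submodule.mem_sup_left ((Submodule.mem_annihilator_span_singleton z s).2 hsz)))
    obtain ⟨_, hx, ⟨c, hc, rfl⟩⟩ := Set.not_disjoint_iff.1 hnd
    obtain ⟨s, hs, t, ht, hst⟩ := Submodule.mem_sup.1 hx
    have hsz : s • z = 0 := (Submodule.mem_annihilator_span_singleton z s).1 hs
    let PB : Ideal B' := p.map (algebraMap B B')
    have htz : t • z ∈ PB • Cz := by
      obtain ⟨t₁, ht₁, t₂, ht₂, rfl⟩ := Submodule.mem_sup.1 ht
      rw [add_smul]
      refine add_mem ?_ (Submodule.smul_mem_smul ht₂ (Submodule.mem_span_singleton_self z))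
      suffices t₁ • z = 0 by rw [this]; exact zero_mem _
      clear hst ht
      generalize z = y
      induction ht₁ using Submodule.span_induction generalizing y with
      | mem t ht => obtain ⟨d, hd, rfl⟩ := ht; exact hA'Z d hd y
      | zero => exact zero_smul _ _
      | add a d _ _ ha hd => rw [add_smul, ha y, hd y, add_zero]
      | smul o d _ hd => rw [smul_eq_mul, mul_smul, hd y, smul_zero]
    have hcz : algebraMap B B' c • z ∈ PB • Cz := by
      rw [← hst, add_smul, hsz, zero_add]; exact htz
    have hcn : ∀ n : ℕ, algebraMap B B' (c ^ n) • z ∈ PB ^ n • Cz := by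
      intro n
      induction n with
      | zero => simp only [pow_zero, map_one, one_smul, Ideal.one_eq_top, Submodule.top_smul]
                exact Submodule.mem_span_singleton_self z
      | succ n ih =>
        have h2 : ∀ y ∈ PB ^ n • Cz, algebraMap B B' c • y ∈ PB ^ (n + 1) • Cz := by
          intro y hy
          refine Submodule.smul_induction_on hy (fun d hd w hw => ?_) fun x x' hx hx' => by
            rw [smul_add]; exact add_mem hx hx'
          obtain ⟨o, rfl⟩ := Submodule.mem_span_singleton.1 hw
          rw [smul_comm (algebraMap B B' c) d, smul_comm (algebraMap B B' c) o, pow_succ, Submodule.mul_smul]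
          exact Submodule.smul_mem_smul hd (Submodule.smul_mem _ _ hcz)
        rw [pow_succ' c, map_mul, mul_smul]
        exact h2 _ ih
    have hcoord : ∀ (n : ℕ) (y : Z), y ∈ PB ^ n • Cz → ∀ i, E y i ∈ (maximalIdeal O) ^ n • (⊤ : Submodule O Nbar) := by
      intro n y hy i
      refine Submodule.smul_induction_on hy (fun d hd w hw => ?_) fun x x' hx hx' => by
        rw [hEadd, Finsupp.add_apply]; exact add_mem hx hx'
      clear hw
      rw [show PB ^ n = (p ^ n).map (algebraMap B B') from (Ideal.map_pow _ _ _).symm] at hd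
      induction hd using Submodule.span_induction generalizing w with
      | mem d hd =>
        obtain ⟨b, hb, rfl⟩ := hd
        rw [hEb, ← algebraMap_smul O b]
        refine Submodule.smul_mem_smul ?_ Submodule.mem_top
        rw [← Localization.AtPrime.map_eq_maximalIdeal, ← Ideal.map_pow]
        exact Ideal.mem_map_of_mem _ hb
      | zero => simp [E]
      | add a d _ _ ha hd => rw [add_smul, hEadd, Finsupp.add_apply]; exact add_mem (ha w) (hd w)
      | smul o d _ hd => rw [smul_eq_mul, mul_comm, mul_smul]; exact hd (o • w)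
    haveI : IsNoetherianRing O := IsLocalization.isNoetherianRing p.primeCompl O inferInstance
    haveI : Module.Finite O N := Module.Finite.of_isLocalizedModule p.primeCompl (LocalizedModule.mkLinearMap p.primeCompl M)
    have hzero : E z = 0 := Finsupp.ext fun i => by
      have hall : E z i ∈ ⨅ n : ℕ, (maximalIdeal O) ^ n • (⊤ : Submodule O Nbar) := by
        rw [Submodule.mem_iInf]
        intro n
        have h1 := hcoord n _ (hcn n) i
        rw [hEb, ← algebraMap_smul O (c ^ n)] at h1
        exact (Submodule.smul_mem_iff_of_isUnit _ (IsLocalization.map_units O (⟨c ^ n, pow_mem hc n⟩ : p.primeCompl))).1 h1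
      rw [Ideal.iInf_pow_smul_eq_bot_of_isLocalRing (maximalIdeal O) (maximalIdeal.isMaximal O).ne_top] at hall
      exact (Submodule.mem_bot O).1 hall
    exact Φ.injective ((TensorProduct.equivFinsuppOfBasisLeft γ).injective (hzero.trans (by simp)))
  -- the element attached to a relation
  let vv : Λ → ↥V := fun i => ⟨J.mkQ (algebraMap A A' (a i)),
    Submodule.mem_map_of_mem (Ideal.mem_map_of_mem _ (Ideal.subset_span ⟨a, ha, i, rfl⟩))⟩
  let z : Z := ∑ i ∈ a.support, ((1 : B') ⊗ₜ[B] β i) ⊗ₜ[A'] vv i
  have hsplit : ∀ (P : Ideal B') [P.IsPrime], P.comap (algebraMap B B') = p →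
      P.comap (algebraMap A' B') = maximalIdeal A' →
      Module.Flat A' (LocalizedModule P.primeCompl (B' ⊗[B] M)) → ∃ s ∉ P, s • z = 0 := by
    intro P _ hPB hPA hfl
    obtain ⟨d, hd⟩ := IsLocalizedModule.exist_integer_multiples p.primeCompl
      (LocalizedModule.mkLinearMap p.primeCompl M) a.support e
    choose! m hm using hd
    have h0 : LocalizedModule.mkLinearMap p.primeCompl M (∑ i ∈ a.support, a i • m i) = 0 := by
      rw [map_sum]
      calc ∑ i ∈ a.support, LocalizedModule.mkLinearMap p.primeCompl M (a i • m i)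
          = ∑ i ∈ a.support, (d : B) • (a i • e i) := Finset.sum_congr rfl fun i hi => by
            rw [LinearMap.map_smul_of_tower, hm i hi, smul_comm]
        _ = 0 := by
          rw [← Finset.smul_sum]
          rw [Finsupp.linearCombination_apply] at ha
          rw [show ∑ i ∈ a.support, a i • e i = 0 from ha, smul_zero]
    obtain ⟨d₂, hd₂⟩ := (IsLocalizedModule.eq_zero_iff p.primeCompl (LocalizedModule.mkLinearMap p.primeCompl M)).1 h0
    let x : M' ⊗[A'] ↥V := ∑ i ∈ a.support, ((1 : B') ⊗ₜ[B] ((d₂ : B) • m i)) ⊗ₜ[A'] vv i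
    have hx : (V.subtype).lTensor M' x = 0 := by
      rw [map_sum]
      calc ∑ i ∈ a.support, V.subtype.lTensor M' (((1 : B') ⊗ₜ[B] ((d₂ : B) • m i)) ⊗ₜ[A'] vv i)
          = ∑ i ∈ a.support, ((1 : B') ⊗ₜ[B] (a i • ((d₂ : B) • m i))) ⊗ₜ[A'] J.mkQ (1 : A') :=
            Finset.sum_congr rfl fun i _ => by
              rw [LinearMap.lTensor_tmul]
              show _ ⊗ₜ[A'] J.mkQ (algebraMap A A' (a i)) = _
              rw [show algebraMap A A' (a i) = algebraMap A A' (a i) • (1 : A') from (mul_one _).symm, map_smul,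
                ← TensorProduct.smul_tmul]
              congr 1
              rw [← algebraMap_smul B' (algebraMap A A' (a i)), ← IsScalarTower.algebraMap_apply A A' B',
                IsScalarTower.algebraMap_apply A B B', algebraMap_smul, ← TensorProduct.tmul_smul, algebraMap_smul]
        _ = 0 := by
          rw [← TensorProduct.sum_tmul, ← TensorProduct.tmul_sum]
          have : ∑ i ∈ a.support, a i • ((d₂ : B) • m i) = 0 := by
            rw [Finset.sum_congr rfl fun i _ => smul_comm (a i) (d₂ : B) (m i), ← Finset.smul_sum]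
            exact hd₂
          rw [this, TensorProduct.tmul_zero, TensorProduct.zero_tmul]
    haveI := hfl
    obtain ⟨s, hs, hsx⟩ := GrothLib.FlatGr5.exists_smul_eq_zero_of_flat (R := A') (A := B') (M := M') P.primeCompl
      V.subtype (Module.Flat.lTensor_preserves_injective_linearMap _ V.injective_subtype) x hx
    let g : M →ₗ[B] Nbar :=
      (Submodule.mkQ ((maximalIdeal A).map (algebraMap A O) • (⊤ : Submodule O N))).restrictScalars B ∘ₗ
        LocalizedModule.mkLinearMap p.primeCompl M
    let G : M' ⊗[A'] ↥V →ₗ[B'] Z := AlgebraTensorModule.map (g.baseChange B') LinearMap.id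
    have hG : G x = algebraMap B B' ((d₂ : B) * (d : B)) • z := by
      rw [map_sum, Finset.smul_sum]
      refine Finset.sum_congr rfl fun i hi => ?_
      rw [TensorProduct.smul_tmul', TensorProduct.smul_tmul', algebraMap_smul B' _ (1 : B'), TensorProduct.smul_tmul]
      show ((1 : B') ⊗ₜ[B] g ((d₂ : B) • m i)) ⊗ₜ[A'] vv i = _
      congr 2
      rw [map_smul, mul_smul, ← he i]
      congr 1
      show Submodule.Quotient.mk (LocalizedModule.mkLinearMap p.primeCompl M (m i)) = _
      rw [hm i hi]
      rfl
    refine ⟨s * algebraMap B B' ((d₂ : B) * (d : B)), fun h => ?_, ?_⟩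
    · refine (‹P.IsPrime›.mem_or_mem h).elim hs fun h' => ?_
      have h'' : (d₂ : B) * (d : B) ∈ p := hPB.le h'
      exact ((inferInstance : p.IsPrime).mem_or_mem h'').elim d₂.2 d.2
    · rw [mul_smul, ← hG, ← map_smul]
      exact (congrArg G hsx).trans (map_zero _)
  have hz : z = 0 := by
    rcases hflat with hall | ⟨hprim, P, hP, hPB, hPA, hfl⟩
    · exact hkey z fun P _ hPB hPA => hsplit P hPB hPA (hall P hPB hPA)
    obtain ⟨s, hs, hsz⟩ := hsplit P hPB hPA hfl
    let L := A' ⧸ maximalIdeal A'
    letI : Field L := Ideal.Quotient.field _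
    have hk0 : ∀ c ∈ maximalIdeal A, algebraMap A L c = 0 := fun c hc => by
      rw [IsScalarTower.algebraMap_apply A A' L, Ideal.Quotient.algebraMap_eq]
      exact Ideal.Quotient.eq_zero_iff_mem.2 (hloc c hc)
    letI : Algebra k L := (Ideal.Quotient.lift (maximalIdeal A) (algebraMap A L) hk0).toAlgebra
    letI : Module L ↥V := Module.IsTorsionBySet.module (I := maximalIdeal A') fun x c => hmV _ c.2 x
    haveI : IsScalarTower k L ↥V := IsScalarTower.of_algebraMap_smul fun c x => by
      obtain ⟨c, rfl⟩ := Ideal.Quotient.mk_surjective c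
      show Ideal.Quotient.mk (maximalIdeal A') (algebraMap A A' c) • x = algebraMap A k c • x
      rw [algebraMap_smul]
      exact algebraMap_smul A' c x
    let K := O ⧸ maximalIdeal O
    have hK0 : ∀ c ∈ maximalIdeal A, algebraMap A K c = 0 := fun c hc => by
      obtain ⟨n, hn⟩ := IsArtinianRing.isNilpotent_jacobson_bot (R := A)
      rw [IsLocalRing.jacobson_eq_maximalIdeal ⊥ bot_ne_top] at hn
      rw [IsScalarTower.algebraMap_apply A O K, Ideal.Quotient.algebraMap_eq, Ideal.Quotient.eq_zero_iff_mem]
      refine (maximalIdeal.isMaximal O).isPrime.mem_of_pow_mem n ?_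
      rw [← map_pow, Ideal.mem_bot.1 (hn.le (Ideal.pow_mem_pow hc n)), map_zero]
      exact zero_mem _
    letI : Algebra k K := (Ideal.Quotient.lift (maximalIdeal A) (algebraMap A K) hK0).toAlgebra
    haveI : IsScalarTower A k K := IsScalarTower.of_algebraMap_eq fun c => rfl
    haveI : IsNoetherianRing O := IsLocalization.isNoetherianRing p.primeCompl O inferInstance
    haveI : Module.Finite O N :=
      Module.Finite.of_isLocalizedModule p.primeCompl (LocalizedModule.mkLinearMap p.primeCompl M)
    have hsep : ∀ x : K, IsSeparable k x → x ∈ Set.range (algebraMap k K) := by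
      intro x hx
      obtain ⟨q, hq⟩ := Polynomial.map_surjective (Ideal.Quotient.mk (maximalIdeal A)) Ideal.Quotient.mk_surjective
        (minpoly k x)
      obtain ⟨c, hc⟩ := hprim x q (by rw [hq]; exact hx) (by
        have := minpoly.aeval k x
        rw [← hq] at this
        rwa [show Ideal.Quotient.mk (maximalIdeal A) = algebraMap A k from rfl, Polynomial.aeval_map_algebraMap] at this)
      exact ⟨algebraMap A k c, by rw [← IsScalarTower.algebraMap_apply]; exact hc⟩
    let Ω := P.ResidueField
    let ψ : B' →+* Ω := algebraMap B' Ω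
    have hψ : ∀ c, ψ c = 0 ↔ c ∈ P := fun c => Ideal.algebraMap_residueField_eq_zero
    have hL0 : ∀ c ∈ maximalIdeal A', ψ.comp (algebraMap A' B') c = 0 := fun c hc =>
      (hψ _).2 (hPA.ge hc)
    let ρL : L →+* Ω := Ideal.Quotient.lift (maximalIdeal A') (ψ.comp (algebraMap A' B')) hL0
    have hunit : ∀ c : p.primeCompl, IsUnit (ψ.comp (algebraMap B B') c) := fun c =>
      isUnit_iff_ne_zero.2 fun h => c.2 (hPB.le ((hψ _).1 h))
    let ρO : O →+* Ω := IsLocalization.lift hunit
    have hρO : ∀ c : B, ρO (algebraMap B O c) = ψ (algebraMap B B' c) := IsLocalization.lift_eq hunit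
    have hO0 : ∀ c ∈ maximalIdeal O, ρO c = 0 := fun c hc => by
      obtain ⟨c₀, t, rfl⟩ := IsLocalization.exists_mk'_eq p.primeCompl c
      have h0 : c₀ ∈ p := by
        by_contra h
        exact (IsLocalization.AtPrime.isUnit_mk'_iff O p c₀ t).2 h |> hc
      rw [IsLocalization.lift_mk', show (ψ.comp (algebraMap B B')) c₀ = 0 from (hψ _).2 (hPB.ge h0)]
      exact zero_mul _
    let ρK : K →+* Ω := Ideal.Quotient.lift (maximalIdeal O) ρO hO0
    letI : Algebra k Ω := (ρL.comp (algebraMap k L)).toAlgebra
    let ρL' : L →ₐ[k] Ω := { toRingHom := ρL, commutes' := fun _ => rfl }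
    let ρK' : K →ₐ[k] Ω :=
      { toRingHom := ρK
        commutes' := fun c => by
          obtain ⟨c, rfl⟩ := Ideal.Quotient.mk_surjective c
          show ρO (algebraMap A O c) = ψ (algebraMap A' B' (algebraMap A A' c))
          rw [IsScalarTower.algebraMap_apply A B O, hρO, ← IsScalarTower.algebraMap_apply A B B',
            ← IsScalarTower.algebraMap_apply A A' B'] }
    let ρ : L ⊗[k] K →+* Ω := (Algebra.TensorProduct.lift ρL' ρK' fun _ _ => Commute.all _ _).toRingHom
    have hρ : ∀ (l : L) (c : K), ρ (l ⊗ₜ[k] c) = ρL l * ρK c := fun l c => Algebra.TensorProduct.lift_tmul _ _ _ l c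
    refine eq_zero_of_smul (A := A) (k := k) (L := L) (O := O) (B' := B') (Ω := Ω) (Z := Z) Ideal.Quotient.mk_surjective hsep Φ ρ ψ (fun t => ?_)
      (fun h => hs ((hψ s).1 h)) hsz
    induction t using (Algebra.IsPushout.out (R := A) (S := A') (R' := B) (S' := B')).inductionOn with
    | zero => exact ⟨0, Fin.elim0, Fin.elim0, fun v y => by simp, by simp⟩
    | tmul c =>
      refine ⟨1, fun _ => 1, fun _ => algebraMap B O c, fun v y => ?_, ?_⟩
      · have h1 : Φ.symm (v ⊗ₜ[k] y) = ((1 : B') ⊗ₜ[B] y) ⊗ₜ[A'] v := by rw [AddEquiv.symm_apply_eq, hΦ]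
        rw [h1]
        show Φ (algebraMap B B' c • (((1 : B') ⊗ₜ[B] y) ⊗ₜ[A'] v)) = _
        rw [TensorProduct.smul_tmul', TensorProduct.smul_tmul', algebraMap_smul B' c (1 : B'), TensorProduct.smul_tmul,
          hΦ, Fin.sum_univ_one, one_smul, algebraMap_smul]
      · show ψ (algebraMap B B' c) = _
        rw [Fin.sum_univ_one, hρ, map_one, one_mul]
        exact (hρO c).symm
    | smul a' t ht =>
      obtain ⟨m, ca, cb, hab, hψt⟩ := ht
      refine ⟨m, fun i => Ideal.Quotient.mk (maximalIdeal A') a' * ca i, cb, fun v y => ?_, ?_⟩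
      · have hΦA : ∀ w : ↥V ⊗[k] Nbar, Φ (a' • Φ.symm w) =
            TensorProduct.map ((Ideal.Quotient.mk (maximalIdeal A') a' : L) • (LinearMap.id : ↥V →ₗ[k] ↥V)) LinearMap.id w := by
          intro w
          induction w using TensorProduct.induction_on with
          | zero => simp
          | add u u' hu hu' => simp only [map_add, smul_add, hu, hu']
          | tmul v y =>
            have h1 : Φ.symm (v ⊗ₜ[k] y) = ((1 : B') ⊗ₜ[B] y) ⊗ₜ[A'] v := by rw [AddEquiv.symm_apply_eq, hΦ]
            rw [h1, TensorProduct.smul_tmul', TensorProduct.smul_tmul, hΦ]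
            rfl
        rw [smul_assoc, ← Φ.symm_apply_apply (t • Φ.symm (v ⊗ₜ[k] y)), hΦA, hab, map_sum]
        refine Finset.sum_congr rfl fun i _ => ?_
        rw [TensorProduct.map_tmul, LinearMap.id_apply, LinearMap.smul_apply, LinearMap.id_apply, mul_smul]
      · rw [Algebra.smul_def, map_mul, hψt, map_sum, map_sum, Finset.mul_sum]
        refine Finset.sum_congr rfl fun i _ => ?_
        rw [hρ, hρ, map_mul, mul_assoc]
        rfl
    | add t t' ht ht' =>
      obtain ⟨m, ca, cb, hab, hψt⟩ := ht
      obtain ⟨m', ca', cb', hab', hψt'⟩ := ht'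
      refine ⟨m + m', Fin.append ca ca', Fin.append cb cb', fun v y => ?_, ?_⟩
      · rw [add_smul, map_add, hab, hab', Fin.sum_univ_add]
        simp
      · rw [map_add, hψt, hψt', ← map_add, Fin.sum_univ_add]
        simp
  have hzero : ∑ i ∈ a.support, vv i ⊗ₜ[k] β i = 0 := by
    have := congrArg Φ hz
    rw [map_zero, map_sum] at this
    simpa only [hΦ] using this
  have hv : vv i₀ = 0 := by
    have h1 := congrArg (fun w => TensorProduct.equivFinsuppOfBasisRight β w i₀) hzero
    simp only [map_sum, map_zero, Finsupp.coe_zero, Pi.zero_apply, Finsupp.coe_finsetSum, Finset.sum_apply,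
      TensorProduct.equivFinsuppOfBasisRight_apply_tmul_apply, Module.Basis.repr_self, Finsupp.single_apply,
      ite_smul, one_smul, zero_smul, Finset.sum_ite_eq'] at h1
    by_cases hi : i₀ ∈ a.support
    · simpa [hi] using h1
    · refine Subtype.ext ?_
      show J.mkQ (algebraMap A A' (a i₀)) = 0
      rw [Finsupp.notMem_support_iff.1 hi, map_zero, map_zero]
  exact (Submodule.Quotient.mk_eq_zero J).1 (congrArg Subtype.val hv)

/-- All points over `p` and the closed point. -/
theorem exists_ideal :
    ∃ R₀ : Ideal A, (R₀ = ⊥ → Module.Flat A (LocalizedModule p.primeCompl M)) ∧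
      ∀ (A' B' : Type u) [CommRing A'] [IsLocalRing A'] [CommRing B'] [Algebra A A'] [Algebra A' B']
        [Algebra B B'] [Algebra A B'] [IsScalarTower A A' B'] [IsScalarTower A B B'] [Algebra.IsPushout A A' B B']
        [SMulCommClass B A' B'],
        (∀ (P : Ideal B') [P.IsPrime], P.comap (algebraMap B B') = p →
          P.comap (algebraMap A' B') = maximalIdeal A' →
          Module.Flat A' (LocalizedModule P.primeCompl (B' ⊗[B] M))) →
        R₀.map (algebraMap A A') = ⊥ := by
  obtain ⟨R₀, h0, h1⟩ := exists_ideal_gen (A := A) M p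
  exact ⟨R₀, h0, fun A' B' _ _ _ _ _ _ _ _ _ _ _ h => h1 A' B' (Or.inl h)⟩

end GrothLib.FlatFam5
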