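import Groth.Agent.Lib.FlatFam5.Geometric

/-!
# Separating families with a primary residue extension: geometric form
-/

set_option autoImplicit false
set_option backward.isDefEq.respectTransparency false
set_option linter.style.haveILetI false
universe u

open CategoryTheory Limits AlgebraicGeometry TensorProduct IsLocalRing

namespace GrothLib.FlatFam5

theorem primeAt_closedPoint (A' : Type u) [CommRing A'] [IsLocalRing A'] (s : Γ(Spec (CommRingCat.of A'), ⊤)) :
    s ∉ GrothLib.WeakAss.primeAt (V := (⊤ : (Spec (CommRingCat.of A')).Opens)) (IsLocalRing.closedPoint A') trivial ↔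
      IsUnit s := by
  rw [GrothLib.WeakAss.notMem_primeAt_iff]
  constructor
  · intro h
    refine RingedSpace.isUnit_of_isUnit_germ (Spec (CommRingCat.of A')).toRingedSpace ⊤ s fun y hy => ?_
    exact ((Spec (CommRingCat.of A')).mem_basicOpen s y hy).1
      ((IsLocalRing.specializes_closedPoint y).mem_open ((Spec (CommRingCat.of A')).basicOpen s).2 h)
  · intro h
    rw [Scheme.basicOpen_of_isUnit _ h]
    trivial

/-- Translation of the condition on the residue extension. -/
theorem primaryAt_of_residueField {A : Type u} [CommRing A] [IsLocalRing A] {X : Scheme.{u}}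
    (f : X ⟶ Spec (CommRingCat.of A)) {U : X.Opens} (hU : IsAffineOpen U) {x : X} (hxU : x ∈ U)
    [IsArtinianRing Γ(Spec (CommRingCat.of A), ⊤)] [IsLocalRing Γ(Spec (CommRingCat.of A), ⊤)]
    [Algebra Γ(Spec (CommRingCat.of A), ⊤) Γ(X, U)]
    (halg : algebraMap Γ(Spec (CommRingCat.of A), ⊤) Γ(X, U) = (f.appLE ⊤ U (fun _ _ => trivial)).hom)
    (hprim : letI := (f.residueFieldMap x).hom.toAlgebra
      ∀ a : ↑(X.residueField x), IsSeparable ↑((Spec (CommRingCat.of A)).residueField (f x)) a →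
        a ∈ (f.residueFieldMap x).hom.range) :
    PrimaryAt (A := Γ(Spec (CommRingCat.of A), ⊤)) (B := Γ(X, U)) (GrothLib.WeakAss.primeAt x hxU) := by
  let S := Spec (CommRingCat.of A)
  let R := Γ(S, ⊤)
  let y : S := f x
  intro ξ q hq hroot
  let p := GrothLib.WeakAss.primeAt x hxU
  let O := Localization.AtPrime p
  letI := X.presheaf.algebra_section_stalk ⟨x, hxU⟩
  haveI := GrothLib.FlatFP.isLocalization_stalk_primeAt hU hxU
  let e : O ≃ₐ[Γ(X, U)] X.presheaf.stalk x := IsLocalization.algEquiv p.primeCompl _ _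
  let ev : O →+* X.residueField x := (X.residue x).hom.comp e.toRingHom
  have hev : ∀ c ∈ maximalIdeal O, ev c = 0 := fun c hc => by
    refine IsLocalRing.residue_eq_zero_iff (e c) |>.2 ?_
    intro hu
    exact hc ((MulEquiv.isUnit_map e.toMulEquiv).1 hu)
  let η : O ⧸ maximalIdeal O →+* X.residueField x := Ideal.Quotient.lift _ ev hev
  let εy : R →+* S.residueField y := (S.Γevaluation y).hom
  have hcomm : η.comp (algebraMap R (O ⧸ maximalIdeal O)) = (f.residueFieldMap x).hom.comp εy := by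
    ext r
    show η (Ideal.Quotient.mk _ (algebraMap R O r)) = f.residueFieldMap x (S.Γevaluation y r)
    rw [Scheme.Γevaluation_naturality_apply]
    show X.residue x (e (algebraMap R O r)) = X.residue x (X.presheaf.germ ⊤ x trivial (f.appTop r))
    congr 1
    rw [IsScalarTower.algebraMap_apply R Γ(X, U) O, e.commutes, halg]
    exact TopCat.Presheaf.germ_res_apply X.presheaf (homOfLE le_top) x hxU _
  have hmax : ∀ r ∈ maximalIdeal R, εy r = 0 := fun r hr => by
    obtain ⟨n, hn⟩ := IsArtinianRing.isNilpotent_jacobson_bot (R := R)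
    rw [IsLocalRing.jacobson_eq_maximalIdeal ⊥ bot_ne_top] at hn
    have h0 : εy r ^ n = 0 := by
      rw [← map_pow, Ideal.mem_bot.1 (hn.le (Ideal.pow_mem_pow hr n)), map_zero]
    exact eq_zero_of_pow_eq_zero h0
  let ky : R ⧸ maximalIdeal R →+* S.residueField y := Ideal.Quotient.lift _ εy hmax
  have hsurj : Function.Surjective εy := by
    intro c
    obtain ⟨c, rfl⟩ := Scheme.residue_surjective S y c
    letI := S.presheaf.algebra_section_stalk (U := (⊤ : S.Opens)) ⟨y, trivial⟩
    haveI := GrothLib.FlatFP.isLocalization_stalk_primeAt (isAffineOpen_top S) (x := y) trivial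
    obtain ⟨r, s, rfl⟩ := IsLocalization.exists_mk'_eq (GrothLib.WeakAss.primeAt (V := (⊤ : S.Opens)) y trivial).primeCompl c
    have hs : IsUnit (s : R) := IsLocalRing.notMem_maximalIdeal.1 fun hm =>
      s.2 (by
        obtain ⟨n, hn⟩ := IsArtinianRing.isNilpotent_jacobson_bot (R := R)
        rw [IsLocalRing.jacobson_eq_maximalIdeal ⊥ bot_ne_top] at hn
        refine (inferInstance : (GrothLib.WeakAss.primeAt (V := (⊤ : S.Opens)) y trivial).IsPrime).mem_of_pow_mem n ?_
        rw [Ideal.mem_bot.1 (hn.le (Ideal.pow_mem_pow hm n))]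
        exact zero_mem _)
    refine ⟨r * (hs.unit⁻¹ : Rˣ), ?_⟩
    show S.residue y (algebraMap R (S.presheaf.stalk y) _) = _
    congr 1
    rw [IsLocalization.eq_mk'_iff_mul_eq, ← map_mul, mul_assoc, IsUnit.val_inv_mul, mul_one]
  letI : Algebra (S.residueField y) (X.residueField x) := (f.residueFieldMap x).hom.toAlgebra
  let qy : Polynomial (S.residueField y) := q.map εy
  have hqy : qy.Separable := by
    have h1 : qy = (q.map (Ideal.Quotient.mk (maximalIdeal R))).map ky := by
      rw [Polynomial.map_map]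
      rfl
    rw [h1]
    exact hq.map
  have hroot' : Polynomial.aeval (η ξ) qy = 0 := by
    rw [Polynomial.aeval_def, Polynomial.eval₂_map]
    show Polynomial.eval₂ ((f.residueFieldMap x).hom.comp εy) (η ξ) q = 0
    rw [← hcomm, ← Polynomial.hom_eval₂, ← Polynomial.aeval_def, hroot, map_zero]
  have hsep : IsSeparable (S.residueField y) (η ξ) := hqy.of_dvd (minpoly.dvd _ _ hroot')
  obtain ⟨c, hc⟩ := hprim (η ξ) hsep
  obtain ⟨r, rfl⟩ := hsurj c
  letI : Field (O ⧸ maximalIdeal O) := Ideal.Quotient.field _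
  exact ⟨r, η.injective ((DFunLike.congr_fun hcomm r).trans hc)⟩

/-- **The obstruction ideal, for a primary residue extension.** -/
theorem exists_ideal_geom_prim {A : Type u} [CommRing A] [IsArtinianRing A] [IsLocalRing A] {X : Scheme.{u}}
    (f : X ⟶ Spec (CommRingCat.of A)) [LocallyOfFiniteType f] (F : X.Modules) (hF : Coh.IsCoh F) (x : X)
    (hprim : letI := (f.residueFieldMap x).hom.toAlgebra
      ∀ a : ↑(X.residueField x), IsSeparable ↑((Spec (CommRingCat.of A)).residueField (f x)) a →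
        a ∈ (f.residueFieldMap x).hom.range) :
    ∃ R₀ : Ideal A, (R₀ = ⊥ → FlatMod.IsFlatOverAt f F x) ∧
      ∀ (A' : Type u) [CommRing A'] [IsLocalRing A'] (u : A →+* A'),
        (∃ x' : ↥(pullback f (Spec.map (CommRingCat.ofHom u))),
          pullback.fst f (Spec.map (CommRingCat.ofHom u)) x' = x ∧
          pullback.snd f (Spec.map (CommRingCat.ofHom u)) x' = IsLocalRing.closedPoint A' ∧
          FlatMod.IsFlatOverAt (pullback.snd f (Spec.map (CommRingCat.ofHom u)))
            ((Scheme.Modules.pullback (pullback.fst f (Spec.map (CommRingCat.ofHom u)))).obj F) x') →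
        ∀ a ∈ R₀, u a = 0 := by
  let S := Spec (CommRingCat.of A)
  let R := Γ(S, ⊤)
  let ε : A ≃+* R := (Scheme.ΓSpecIso (CommRingCat.of A)).symm.commRingCatIsoToRingEquiv
  haveI : IsArtinianRing R := RingEquiv.isArtinianRing ε
  haveI : IsLocalRing R := ε.isLocalRing
  haveI : IsLocallyNoetherian X := LocallyOfFiniteType.isLocallyNoetherian f
  haveI := hF.1
  obtain ⟨U, hU, hxU, -⟩ := exists_isAffineOpen_mem_and_subset (X := X) (U := ⊤) (x := x) trivial
  have eU : U ≤ f ⁻¹ᵁ (⊤ : S.Opens) := fun z _ => trivial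
  haveI := QCoh.moduleFinite_of_isFiniteType F hF.2 hU
  haveI : IsNoetherianRing Γ(X, U) := IsLocallyNoetherian.component_noetherian ⟨U, hU⟩
  letI : Algebra R Γ(X, U) := (f.appLE ⊤ U eU).hom.toAlgebra
  letI : Module R Γ(F, U) := Module.compHom _ (algebraMap R Γ(X, U))
  haveI : IsScalarTower R Γ(X, U) Γ(F, U) := IsScalarTower.of_algebraMap_smul fun _ _ => rfl
  obtain ⟨R₁, h0, h1⟩ := exists_ideal_gen (A := R) Γ(F, U) (WeakAss.primeAt x hxU)
  refine ⟨R₁.comap ε.toRingHom, fun hbot => ?_, ?_⟩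
  · refine (GrothLib.FlatFP.isFlatOverAt_iff f F (isAffineOpen_top S) hU eU hxU rfl).2 (h0 ?_)
    rw [eq_bot_iff]
    intro r hr
    obtain ⟨a, rfl⟩ := ε.surjective r
    have ha : a ∈ R₁.comap ε.toRingHom := hr
    rw [hbot, Ideal.mem_bot] at ha
    rw [ha, map_zero]
    exact zero_mem _
  intro A' _ _ u hflat a ha
  obtain ⟨x', hx1, hx2, hflat⟩ := hflat
  let g := Spec.map (CommRingCat.ofHom u)
  let Y := Spec (CommRingCat.of A')
  let W : Y.Opens := ⊤
  have hW : IsAffineOpen W := isAffineOpen_top Y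
  let εW : A' ≃+* Γ(Y, W) := (Scheme.ΓSpecIso (CommRingCat.of A')).symm.commRingCatIsoToRingEquiv
  haveI : IsLocalRing Γ(Y, W) := εW.isLocalRing
  have eV : W ≤ g ⁻¹ᵁ (⊤ : S.Opens) := fun z _ => trivial
  have hc : IsPullback (pullback.fst f g) (pullback.snd f g) f g := IsPullback.of_hasPullback f g
  let g' := pullback.fst f g
  let f' := pullback.snd f g
  let X' := pullback f g
  let P : X'.Opens := g' ⁻¹ᵁ U ⊓ f' ⁻¹ᵁ W
  have hP : IsAffineOpen P := GrothLib.FlatLimit.isAffineOpen_square hc eV eU (isAffineOpen_top S) hW hU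
  have hxP : x' ∈ P := ⟨show g' x' ∈ U from hx1 ▸ hxU, trivial⟩
  letI : Algebra R Γ(Y, W) := (g.appLE ⊤ W eV).hom.toAlgebra
  letI : Algebra Γ(Y, W) Γ(X', P) := (f'.appLE W P inf_le_right).hom.toAlgebra
  letI : Algebra Γ(X, U) Γ(X', P) := (g'.appLE U P inf_le_left).hom.toAlgebra
  letI : Algebra R Γ(X', P) := ((algebraMap Γ(X, U) Γ(X', P)).comp (algebraMap R Γ(X, U))).toAlgebra
  haveI : IsScalarTower R Γ(X, U) Γ(X', P) := IsScalarTower.of_algebraMap_eq' rfl
  haveI : IsScalarTower R Γ(Y, W) Γ(X', P) := IsScalarTower.of_algebraMap_eq' (by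
    show (g'.appLE U P _).hom.comp (f.appLE ⊤ U _).hom = (f'.appLE W P _).hom.comp (g.appLE ⊤ W _).hom
    rw [← CommRingCat.hom_comp, ← CommRingCat.hom_comp, Scheme.Hom.appLE_comp_appLE,
      Scheme.Hom.appLE_comp_appLE]
    simp only [g', f', pullback.condition])
  haveI : Algebra.IsPushout R Γ(Y, W) Γ(X, U) Γ(X', P) :=
    GrothLib.FlatLimit.isPushout_square hc eV eU (isAffineOpen_top S) hW hU rfl rfl rfl rfl
  haveI : SMulCommClass Γ(X, U) Γ(Y, W) Γ(X', P) := ⟨fun a b x => by
    rw [Algebra.smul_def, Algebra.smul_def, Algebra.smul_def, Algebra.smul_def, mul_left_comm]⟩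
  have hmax : WeakAss.primeAt (V := W) (IsLocalRing.closedPoint A') trivial = maximalIdeal Γ(Y, W) := by
    ext s
    rw [← not_iff_not, primeAt_closedPoint, IsLocalRing.notMem_maximalIdeal]
  have hQy : (WeakAss.primeAt x' hxP).comap (algebraMap Γ(Y, W) Γ(X', P)) = maximalIdeal Γ(Y, W) := by
    refine (AssPts.comap_primeAt f' (inf_le_right : P ≤ f' ⁻¹ᵁ W) hxP).trans (Eq.trans ?_ hmax)
    congr 1
  have hQx : (WeakAss.primeAt x' hxP).comap (algebraMap Γ(X, U) Γ(X', P)) = WeakAss.primeAt x hxU := by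
    refine (AssPts.comap_primeAt g' (inf_le_left : P ≤ g' ⁻¹ᵁ U) hxP).trans ?_
    congr 1
  have hmap := h1 Γ(Y, W) Γ(X', P) (Or.inr ⟨primaryAt_of_residueField f hU hxU rfl hprim,
    WeakAss.primeAt x' hxP, inferInstance, hQx, hQy,
    (GrothLib.FlatFP.isFlatOverAt_pullback_iff f' g' F hU hW hP inf_le_left inf_le_right hxP rfl rfl).1 hflat⟩)
  have hz : g.appLE ⊤ W eV (ε a) = 0 := Ideal.mem_bot.1 (hmap ▸ Ideal.mem_map_of_mem _ ha)
  apply εW.injective
  rw [map_zero, ← hz]
  show (Scheme.ΓSpecIso (CommRingCat.of A')).inv (u a) = _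
  rw [show g.appLE ⊤ W eV = g.appTop from Scheme.Hom.appLE_eq_app _]
  exact ConcreteCategory.congr_hom (Scheme.ΓSpecIso_inv_naturality (CommRingCat.ofHom u)) a

end GrothLib.FlatFam5
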