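import Groth.Agent.Lib.GeomIrrAlg.FieldExt
import Mathlib.RingTheory.AlgebraicIndependent.TranscendenceBasis
import Mathlib.RingTheory.AlgebraicIndependent.Basic
import Mathlib.RingTheory.Flat.Basic
import Mathlib.RingTheory.TensorProduct.MvPolynomial
import Mathlib.RingTheory.IntegralClosure.Algebra.Basic

/-!
# Zero divisors in the tensor product of a primary field extension with a field
-/

set_option autoImplicit false
set_option linter.style.haveILetI false
set_option backward.isDefEq.respectTransparency false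
universe u

open TensorProduct

namespace GrothLib.FlatFam5

/-- For a prime nilradical: a monic relation makes a zero divisor nilpotent. -/
theorem isNilpotent_of_smul_eq_zero {R D : Type u} [CommRing R] [CommRing D] [Algebra R D]
    (hnil : (nilradical D).IsPrime) (htf : ∀ (r : R) (y : D), r ≠ 0 → algebraMap R D r * y = 0 → y = 0)
    {s y : D} (hs : IsIntegral R s) (hy : y ≠ 0) (hsy : s * y = 0) : IsNilpotent s := by
  classical
  obtain ⟨q, hq, hq0⟩ := hs
  obtain ⟨j, r, hr, hqr⟩ : ∃ (j : ℕ) (r : Polynomial R), Polynomial.coeff r 0 ≠ 0 ∧ q = Polynomial.X ^ j * r := by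
    haveI : Nontrivial R := by
      by_contra hn
      rw [not_nontrivial_iff_subsingleton] at hn
      exact hy (calc y = algebraMap R D 1 * y := by rw [map_one, one_mul]
        _ = 0 := by rw [Subsingleton.elim (1 : R) 0, map_zero, zero_mul])
    have hne : q ≠ 0 := hq.ne_zero
    obtain ⟨r, hr, hnd⟩ := Polynomial.exists_eq_pow_rootMultiplicity_mul_and_not_dvd q hne 0
    rw [map_zero, sub_zero] at hr hnd
    exact ⟨_, r, fun h => hnd (Polynomial.X_dvd_iff.2 h), hr⟩
  set w := Polynomial.eval₂ (algebraMap R D) s r with hw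
  have h1 : s ^ j * w = 0 := by
    rw [hqr, Polynomial.eval₂_mul, Polynomial.eval₂_pow, Polynomial.eval₂_X] at hq0
    exact hq0
  have hwy : w * y = algebraMap R D (r.coeff 0) * y := by
    rw [hw]
    conv_lhs => rw [← Polynomial.X_mul_divX_add r]
    rw [Polynomial.eval₂_add, Polynomial.eval₂_mul, Polynomial.eval₂_X, Polynomial.eval₂_C, add_mul,
      mul_comm s, mul_assoc, hsy, mul_zero, zero_add]
  have hwn : ¬ IsNilpotent w := by
    rintro ⟨N, hN⟩
    have h2 : ∀ n : ℕ, w ^ n * y = algebraMap R D (r.coeff 0) ^ n * y := by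
      intro n
      induction n with
      | zero => simp
      | succ n ih =>
        rw [pow_succ, pow_succ, mul_assoc, hwy, mul_left_comm, ih]
        ring
    have h3 := h2 N
    rw [hN, zero_mul] at h3
    have h4 : ∀ n : ℕ, algebraMap R D (r.coeff 0) ^ n * y = 0 → y = 0 := by
      intro n
      induction n with
      | zero => simp
      | succ n ih =>
        intro h
        rw [pow_succ', mul_assoc] at h
        exact ih (htf _ _ hr h)
    exact hy (h4 N h3.symm)
  rcases hnil.mem_or_mem (show s ^ j * w ∈ nilradical D by rw [h1]; exact zero_mem _) with h | h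
  · exact hnil.mem_of_pow_mem j h
  · exact absurd h hwn

variable (k L K : Type u) [Field k] [Field L] [Field K] [Algebra k L] [Algebra k K]

/-- A tensor product of a purely transcendental extension with a field is a domain. -/
theorem isDomain_adjoin_tensor {ι : Type u} (x : ι → K) (hx : AlgebraicIndependent k x) :
    IsDomain (IntermediateField.adjoin k (Set.range x) ⊗[k] L) := by
  let F := IntermediateField.adjoin k (Set.range x)
  let S := Algebra.adjoin k (Set.range x)
  let P := MvPolynomial ι k
  let i : P →ₐ[k] F := MvPolynomial.aeval fun j =>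
    (⟨x j, IntermediateField.subset_adjoin k _ ⟨j, rfl⟩⟩ : F)
  have hival : ∀ q, ((i q : F) : K) = MvPolynomial.aeval x q := fun q => by
    have : (F.val.comp i) = MvPolynomial.aeval x := MvPolynomial.algHom_ext fun j => by simp [i]
    exact congrArg (fun φ : P →ₐ[k] K => φ q) this
  have hi : Function.Injective i := fun a c h => hx (by rw [← hival, ← hival, h])
  let j : P ⊗[k] L →ₐ[k] F ⊗[k] L := Algebra.TensorProduct.map i (AlgHom.id k L)
  have hj : Function.Injective j :=
    Module.Flat.rTensor_preserves_injective_linearMap (M := L) i.toLinearMap hi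
  haveI : IsDomain (P ⊗[k] L) :=
    (((Algebra.TensorProduct.comm k P L).trans
      ((MvPolynomial.algebraTensorAlgEquiv k L (σ := ι)).restrictScalars k)).toMulEquiv).isDomain
      (MvPolynomial ι L)
  have hclear : ∀ z : F ⊗[k] L, ∃ c : P, c ≠ 0 ∧ ∃ a, (i c ⊗ₜ[k] (1 : L)) * z = j a := by
    intro z
    induction z using TensorProduct.induction_on with
    | zero => exact ⟨1, one_ne_zero, 0, by rw [mul_zero, map_zero]⟩
    | add u v hu hv =>
      obtain ⟨c, hc, a, ha⟩ := hu
      obtain ⟨d, hd, e, he⟩ := hv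
      refine ⟨c * d, mul_ne_zero hc hd, (d ⊗ₜ[k] 1) * a + (c ⊗ₜ[k] 1) * e, ?_⟩
      have hsplit : (i (c * d) ⊗ₜ[k] (1 : L)) = (i c ⊗ₜ[k] (1 : L)) * (i d ⊗ₜ[k] (1 : L)) := by
        rw [Algebra.TensorProduct.tmul_mul_tmul, mul_one, map_mul]
      rw [map_add, map_mul j, map_mul j, ← ha, ← he, hsplit]
      simp only [j, Algebra.TensorProduct.map_tmul, AlgHom.id_apply]
      ring
    | tmul y l =>
      obtain ⟨a, b, hy⟩ := (IntermediateField.mem_adjoin_range_iff k x _).1 y.2
      by_cases hb : b = 0
      · refine ⟨1, one_ne_zero, 0, ?_⟩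
        have : y = 0 := Subtype.ext (by rw [hy, hb, map_zero, div_zero]; rfl)
        rw [this, TensorProduct.zero_tmul, mul_zero, map_zero]
      · refine ⟨b, hb, a ⊗ₜ[k] l, ?_⟩
        rw [Algebra.TensorProduct.tmul_mul_tmul, one_mul]
        simp only [j, Algebra.TensorProduct.map_tmul, AlgHom.id_apply]
        congr 1
        refine Subtype.ext ?_
        show ((i b : F) : K) * (y : K) = (i a : F)
        rw [hival, hival, hy, mul_div_cancel₀]
        exact fun h0 => hb (hx (h0.trans (map_zero _).symm))
  haveI : Nontrivial (F ⊗[k] L) := hj.nontrivial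
  have hu : ∀ c : P, c ≠ 0 → IsUnit (i c ⊗ₜ[k] (1 : L)) := fun c hc => by
    have : IsUnit (i c) := isUnit_iff_ne_zero.2 fun h => hc (hi (h.trans (map_zero i).symm))
    exact this.map (Algebra.TensorProduct.includeLeft : F →ₐ[k] F ⊗[k] L)
  haveI : NoZeroDivisors (F ⊗[k] L) := ⟨fun {u v} huv => by
    obtain ⟨c, hc, a, ha⟩ := hclear u
    obtain ⟨d, hd, e, he⟩ := hclear v
    have h0 : j (a * e) = 0 := by
      have huv' : u * v = 0 := huv
      rw [map_mul, ← ha, ← he]
      linear_combination (i c ⊗ₜ[k] (1 : L)) * (i d ⊗ₜ[k] (1 : L)) * huv'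
    rcases mul_eq_zero.1 (hj (h0.trans (map_zero j).symm)) with h | h
    · exact Or.inl ((hu c hc).mul_left_cancel (b := u) (c := 0) (ha.trans ((congrArg j h).trans ((map_zero j).trans (mul_zero _).symm))))
    · exact Or.inr ((hu d hd).mul_left_cancel (b := v) (c := 0) (he.trans ((congrArg j h).trans ((map_zero j).trans (mul_zero _).symm))))⟩
  exact @NoZeroDivisors.to_isDomain (F ⊗[k] L) _ _ _

/-- **Zero divisors are nilpotent.** -/
theorem isNilpotent_of_mul_eq_zero
    (h : ∀ a : K, IsSeparable k a → a ∈ Set.range (algebraMap k K)) {s y : L ⊗[k] K} (hy : y ≠ 0)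
    (hsy : s * y = 0) : IsNilpotent s := by
  haveI hirr : IrreducibleSpace (PrimeSpectrum (L ⊗[k] K)) :=
    GeomIrrAlg.irreducibleSpace_of_sepClosed k K (SeparableClosure k)
      (GeomIrrAlg.irreducibleSpace_sepClosure k K fun E _ _ _ _ => GeomIrrAlg.irreducibleSpace_finite_separable h E) L
  have hnil : (nilradical (L ⊗[k] K)).IsPrime := PrimeSpectrum.irreducibleSpace_iff_isPrime_nilradical.1 hirr
  obtain ⟨T, hT⟩ := exists_isTranscendenceBasis k K
  let F := IntermediateField.adjoin k (Set.range ((↑) : T → K))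
  haveI : Algebra.IsAlgebraic F K := hT.isAlgebraic_field
  haveI hdom : IsDomain (F ⊗[k] L) := isDomain_adjoin_tensor k L K _ hT.1
  haveI : NoZeroDivisors (F ⊗[k] L) := @IsDomain.to_noZeroDivisors (F ⊗[k] L) _ hdom
  let ι₀ : F ⊗[k] L →ₐ[k] L ⊗[k] K :=
    (Algebra.TensorProduct.comm k K L).toAlgHom.comp
      (Algebra.TensorProduct.map (F.val) (AlgHom.id k L))
  letI : Algebra (F ⊗[k] L) (L ⊗[k] K) := ι₀.toRingHom.toAlgebra
  have hmap : ∀ c : F ⊗[k] L, algebraMap (F ⊗[k] L) (L ⊗[k] K) c = ι₀ c := fun c =>
    DFunLike.congr_fun (RingHom.algebraMap_toAlgebra ι₀.toRingHom) c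
  let e : K ⊗[F] (F ⊗[k] L) ≃ₗ[k] L ⊗[k] K :=
    ((TensorProduct.AlgebraTensorModule.cancelBaseChange k F F K L).restrictScalars k).trans
      (TensorProduct.comm k K L)
  have he : ∀ (c : F ⊗[k] L) (z : K ⊗[F] (F ⊗[k] L)),
      e ((LinearMap.mulLeft F c).lTensor K z) = ι₀ c * e z := by
    intro c z
    induction z using TensorProduct.induction_on with
    | zero => simp
    | add u v hu hv => rw [map_add, map_add, map_add, mul_add, hu, hv]
    | tmul a d =>
      rw [LinearMap.lTensor_tmul, LinearMap.mulLeft_apply]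
      induction d using TensorProduct.induction_on with
      | zero => simp
      | add u v hu hv => rw [mul_add, TensorProduct.tmul_add, TensorProduct.tmul_add, map_add, map_add, mul_add, hu, hv]
      | tmul g l =>
        induction c using TensorProduct.induction_on with
        | zero => simp
        | add u v hu hv => rw [add_mul, TensorProduct.tmul_add, map_add, map_add, add_mul, hu, hv]
        | tmul g' l' =>
          simp only [e, ι₀, Algebra.TensorProduct.tmul_mul_tmul, LinearEquiv.trans_apply,
            LinearEquiv.restrictScalars_apply, TensorProduct.AlgebraTensorModule.cancelBaseChange_tmul,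
            TensorProduct.comm_tmul, AlgHom.comp_apply, Algebra.TensorProduct.map_tmul, AlgHom.id_apply,
            Algebra.TensorProduct.comm_tmul]
          show (l' * l) ⊗ₜ[k] ((g' * g) • a) = (l' ⊗ₜ[k] (g' : K)) * (l ⊗ₜ[k] (g • a))
          rw [Algebra.TensorProduct.tmul_mul_tmul]
          congr 1
          rw [mul_smul]
          rfl
  refine isNilpotent_of_smul_eq_zero (R := F ⊗[k] L) hnil (fun r z hr hrz => ?_) ?_ hy hsy
  · obtain ⟨z, rfl⟩ := e.surjective z
    have h1 : e ((LinearMap.mulLeft F r).lTensor K z) = 0 := (he r z).trans hrz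
    have hinj : Function.Injective (LinearMap.mulLeft F r) := fun a c hac => sub_eq_zero.1
      ((mul_eq_zero.1 (show r * (a - c) = 0 by rw [mul_sub]; exact sub_eq_zero.2 hac)).resolve_left hr)
    have h2 : z = 0 := Module.Flat.lTensor_preserves_injective_linearMap (M := K) _ hinj
      ((e.injective (h1.trans (map_zero e).symm)).trans (map_zero _).symm)
    rw [h2, map_zero]
  · clear hsy hy
    induction s using TensorProduct.induction_on with
    | zero => exact isIntegral_zero
    | add u v hu hv => exact hu.add hv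
    | tmul l a =>
      have hl : IsIntegral (F ⊗[k] L) (l ⊗ₜ[k] (1 : K)) := by
        rw [show l ⊗ₜ[k] (1 : K) = algebraMap (F ⊗[k] L) (L ⊗[k] K) ((1 : F) ⊗ₜ[k] l) by
          rw [hmap]
          simp [ι₀]]
        exact isIntegral_algebraMap
      have ha : IsIntegral (F ⊗[k] L) ((1 : L) ⊗ₜ[k] a) := by
        have h1 : IsIntegral F a := (Algebra.IsAlgebraic.isAlgebraic a).isIntegral
        refine h1.map_of_comp_eq (Algebra.TensorProduct.includeLeft : F →ₐ[k] F ⊗[k] L).toRingHom
          (Algebra.TensorProduct.includeRight : K →ₐ[k] L ⊗[k] K).toRingHom ?_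
        ext g
        rw [RingHom.comp_apply, RingHom.comp_apply, hmap]
        show ι₀ ((g : F) ⊗ₜ[k] (1 : L)) = (1 : L) ⊗ₜ[k] (g : K)
        simp [ι₀]
      rw [show l ⊗ₜ[k] a = (l ⊗ₜ[k] (1 : K)) * ((1 : L) ⊗ₜ[k] a) by
        rw [Algebra.TensorProduct.tmul_mul_tmul, mul_one, one_mul]]
      exact hl.mul ha

end GrothLib.FlatFam5
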